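import Mathlib
import Cfsg.Prelude.Def_OddOrderLocal
import Cfsg.Agent.Lib.Helper35.BG.Basic
import Cfsg.Agent.Lib.Helper35.BG.Hall
import Cfsg.Agent.Lib.Helper46.Amalgam
import Cfsg.Agent.Lib.Helper24.PRank
import Cfsg.Agent.Lib.Helper66.BG.S1367Util
import Cfsg.Agent.Lib.Helper13.BG.S1427A
import Cfsg.Agent.Lib.Helper75.BGUtil

/-!
Generic group-theoretic lemmas used in the S1430-free proof of the sigma-partition
(Bender–Glauberman 13.9): subgroups of prime order in groups of `p`-rank one, a criterion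
for containment through elements of prime power order, and a fixed-point lemma for
metacyclic-like groups.
-/

set_option autoImplicit false

namespace Cfsg.Agent.Lib.Helper83.BG

open Cfsg Cfsg.Agent.Lib.Helper46 Cfsg.Agent.Lib.Helper35.BG

variable {G : Type*} [Group G]

/-- `p`-rank bounds pass to subgroups. -/
theorem pRankLE_le {p k : ℕ} {H M : Subgroup G} (hHM : H ≤ M) (h : PRankLE p k M) :
    PRankLE p k H := by
  rw [Cfsg.Agent.Lib.Helper24.pRankLE_subgroup_iff] at h ⊢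
  exact fun A hA => h A (hA.trans hHM)

/-- Elements of a cyclic subgroup commute. -/
theorem comm_of_isCyclic {C : Subgroup G} (hC : IsCyclic C) {a b : G} (ha : a ∈ C) (hb : b ∈ C) :
    a * b = b * a := by
  obtain ⟨g, hg⟩ := hC
  obtain ⟨m, hm⟩ := Subgroup.mem_zpowers_iff.mp (hg ⟨a, ha⟩)
  obtain ⟨n, hn⟩ := Subgroup.mem_zpowers_iff.mp (hg ⟨b, hb⟩)
  have h1 : (⟨a, ha⟩ : C) * ⟨b, hb⟩ = ⟨b, hb⟩ * ⟨a, ha⟩ := by
    rw [← hm, ← hn]
    exact (Commute.zpow_zpow_self g m n).eq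
  exact congrArg Subtype.val h1

/-- Two elementwise commuting subgroups of order `p` inside a group of `p`-rank at most one
coincide. -/
theorem eq_of_card_prime_of_commute [Finite G] {p : ℕ} [Fact p.Prime] {X Y M : Subgroup G}
    (hr : PRankLE p 1 M) (hXM : X ≤ M) (hYM : Y ≤ M) (hX : Nat.card X = p) (hY : Nat.card Y = p)
    (hc : ∀ a ∈ X, ∀ b ∈ Y, a * b = b * a) : X = Y := by
  by_contra hne
  obtain ⟨hea, hcard⟩ :=
    Cfsg.Agent.Lib.Helper66.BG.ea_sup_of_card_prime (Fact.out : p.Prime) hX hY hne hc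
  exact Cfsg.Agent.Lib.Helper13.BG.not_le_of_pRankLE_one hr hea hcard (sup_le hXM hYM)

/-- A cyclic subgroup has at most one subgroup of order `p`. -/
theorem eq_of_card_prime_of_isCyclic [Finite G] {p : ℕ} [Fact p.Prime] {X Y C : Subgroup G}
    (hC : IsCyclic C) (hXC : X ≤ C) (hYC : Y ≤ C) (hX : Nat.card X = p) (hY : Nat.card Y = p) :
    X = Y :=
  eq_of_card_prime_of_commute (Cfsg.Agent.Lib.Helper13.BG.pRankLE_one_of_isCyclic hC) hXC hYC hX hY
    (fun _ ha _ hb => comm_of_isCyclic hC (hXC ha) (hYC hb))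

/-- A subgroup of prime order is a `p`-group. -/
theorem isPGroup_of_card_prime {p : ℕ} {P : Subgroup G} (hP : Nat.card P = p) : IsPGroup p P :=
  IsPGroup.of_card (n := 1) (by rw [hP, pow_one])

/-- In a group of `p`-rank one (`p` odd) the subgroups of order `p` are conjugate. -/
theorem exists_conj_eq_of_card_prime [Finite G] {p : ℕ} [Fact p.Prime] (hp2 : p ≠ 2)
    {M P P₁ : Subgroup G} (hr : PRankLE p 1 M) (hPM : P ≤ M) (hP₁M : P₁ ≤ M)
    (hP : Nat.card P = p) (hP₁ : Nat.card P₁ = p) :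
    ∃ m ∈ M, P₁.map (MulAut.conj m).toMonoidHom = P := by
  obtain ⟨Q, hQ, hPQ⟩ := exists_isSylowIn_ge (isPGroup_of_card_prime hP) hPM
  obtain ⟨Q₁, hQ₁, hP₁Q₁⟩ := exists_isSylowIn_ge (isPGroup_of_card_prime hP₁) hP₁M
  obtain ⟨m, hm, hQeq⟩ := hQ₁.exists_conj hQ
  refine ⟨m, hm, ?_⟩
  have hQc : IsCyclic Q := Cfsg.Agent.Lib.Helper13.BG.isCyclic_of_pRankLE_one hp2
    (sylIn_isPGroup hQ) (pRankLE_le hQ.1 hr)
  refine eq_of_card_prime_of_isCyclic hQc ?_ hPQ ?_ hP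
  · rw [hQeq]; exact Subgroup.map_mono hP₁Q₁
  · rw [card_map_conj]; exact hP₁

/-- A subgroup `K` lies in `D` as soon as all its elements of prime power order do. -/
theorem le_of_forall_prime_pow_mem [Finite G] (K D : Subgroup G)
    (h : ∀ r : ℕ, r.Prime → ∀ k ∈ K, (∃ n : ℕ, orderOf k = r ^ n) → k ∈ D) : K ≤ D := by
  have hidx : (D.subgroupOf K).index = 1 := by
    by_contra hne
    obtain ⟨r, hr, hdvd⟩ := Nat.exists_prime_and_dvd hne
    have : Fact r.Prime := ⟨hr⟩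
    obtain ⟨Q⟩ : Nonempty (Sylow r K) := inferInstance
    have hQle : (Q : Subgroup K) ≤ D.subgroupOf K := by
      intro x hx
      rw [Subgroup.mem_subgroupOf]
      apply h r hr (x : G) x.2
      obtain ⟨n, hn⟩ := (IsPGroup.iff_orderOf.mp Q.isPGroup') ⟨x, hx⟩
      refine ⟨n, ?_⟩
      rw [← hn, Subgroup.orderOf_coe, ← Subgroup.orderOf_coe (⟨x, hx⟩ : (Q : Subgroup K))]
    have h1 : (D.subgroupOf K).index ∣ (Q : Subgroup K).index := Subgroup.index_dvd_of_le hQle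
    exact Q.not_dvd_index (hdvd.trans h1)
  intro k hk
  have htop := Subgroup.index_eq_one.mp hidx
  have h2 : (⟨k, hk⟩ : K) ∈ D.subgroupOf K := htop ▸ Subgroup.mem_top _
  exact Subgroup.mem_subgroupOf.mp h2

/-- Conjugating a complement by an element of `M` gives a complement (of a normal factor). -/
theorem isComplIn_map_conj' {A B M : Subgroup G} (h : IsComplIn A B M) {g : G} (hg : g ∈ M)
    (hB : M ≤ Subgroup.normalizer (B : Set G)) :
    IsComplIn (A.map (MulAut.conj g).toMonoidHom) B M := by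
  obtain ⟨hAM, hBM, hAB, hprod⟩ := h
  have hgB : ∀ b, b ∈ B → g⁻¹ * b * g ∈ B := by
    intro b hb
    have h1 := (Subgroup.mem_normalizer_iff.mp (hB (M.inv_mem hg)) b).mp hb
    simpa using h1
  have hgB' : ∀ b, b ∈ B → g * b * g⁻¹ ∈ B := by
    intro b hb
    exact (Subgroup.mem_normalizer_iff.mp (hB hg) b).mp hb
  refine ⟨?_, hBM, ?_, ?_⟩
  · rintro _ ⟨a, ha, rfl⟩
    change g * a * g⁻¹ ∈ M
    exact M.mul_mem (M.mul_mem hg (hAM ha)) (M.inv_mem hg)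
  · rw [eq_bot_iff]
    intro y hy
    rw [Subgroup.mem_inf] at hy
    obtain ⟨hy1, hy2⟩ := hy
    rw [mem_map_conj_iff] at hy1
    have h1 : g⁻¹ * y * g ∈ A ⊓ B := ⟨hy1, hgB y hy2⟩
    rw [hAB, Subgroup.mem_bot] at h1
    rw [Subgroup.mem_bot]
    have : y = g * (g⁻¹ * y * g) * g⁻¹ := by group
    rw [this, h1]; group
  · intro m hm
    obtain ⟨a, ha, b, hb, hab⟩ := hprod (g⁻¹ * m * g) (M.mul_mem (M.mul_mem (M.inv_mem hg) hm) hg)
    refine ⟨g * a * g⁻¹, conj_mem_map_conj g ha, g * b * g⁻¹, hgB' b hb, ?_⟩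
    have : m = g * (g⁻¹ * m * g) * g⁻¹ := by group
    rw [this, hab]; group

/-- The elements normalizing `I` whose commutators with all elements of `T` lie in `I`. -/
def commSub (I : Subgroup G) (T : Set G) : Subgroup G where
  carrier := {g | g ∈ Subgroup.normalizer (I : Set G) ∧ ∀ t ∈ T, g * t * g⁻¹ * t⁻¹ ∈ I}
  mul_mem' := by
    rintro a b ⟨ha, ha'⟩ ⟨hb, hb'⟩
    refine ⟨Subgroup.mul_mem _ ha hb, fun t ht => ?_⟩
    have h1 : a * (b * t * b⁻¹ * t⁻¹) * a⁻¹ ∈ I :=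
      (Subgroup.mem_normalizer_iff.mp ha _).mp (hb' t ht)
    have h2 : a * b * t * (a * b)⁻¹ * t⁻¹ = a * (b * t * b⁻¹ * t⁻¹) * a⁻¹ * (a * t * a⁻¹ * t⁻¹) := by
      group
    rw [h2]
    exact I.mul_mem h1 (ha' t ht)
  one_mem' := by
    refine ⟨Subgroup.one_mem _, fun t _ => ?_⟩
    have : (1 : G) * t * 1⁻¹ * t⁻¹ = 1 := by group
    rw [this]; exact I.one_mem
  inv_mem' := by
    rintro a ⟨ha, ha'⟩
    refine ⟨Subgroup.inv_mem _ ha, fun t ht => ?_⟩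
    have h1 : a⁻¹ * (a * t * a⁻¹ * t⁻¹)⁻¹ * a⁻¹⁻¹ ∈ I :=
      (Subgroup.mem_normalizer_iff.mp (Subgroup.inv_mem _ ha) _).mp (I.inv_mem (ha' t ht))
    have h2 : a⁻¹ * t * a⁻¹⁻¹ * t⁻¹ = a⁻¹ * (a * t * a⁻¹ * t⁻¹)⁻¹ * a⁻¹⁻¹ := by group
    rw [h2]; exact h1

theorem mem_commSub {I : Subgroup G} {T : Set G} {g : G} :
    g ∈ commSub I T ↔ g ∈ Subgroup.normalizer (I : Set G) ∧ ∀ t ∈ T, g * t * g⁻¹ * t⁻¹ ∈ I :=
  Iff.rfl

/-- Lemma Z: let `E = A⟨b⟩` with `A` abelian, normalized by `b` and contained in `E'`.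
Then `b` has no nontrivial fixed point on `A`. -/
theorem eq_one_of_le_commutator [Finite G] {A E : Subgroup G} {b : G}
    (hAc : ∀ x ∈ A, ∀ y ∈ A, x * y = y * x)
    (hbA : ∀ x ∈ A, b * x * b⁻¹ ∈ A)
    (hE : E ≤ A ⊔ Subgroup.zpowers b)
    (hAcomm : A ≤ ⁅E, E⁆) :
    ∀ x ∈ A, b * x = x * b → x = 1 := by
  have hψA : ∀ x ∈ A, b * x * b⁻¹ * x⁻¹ ∈ A := fun x hx => A.mul_mem (hbA x hx) (A.inv_mem hx)
  -- the subgroup of commutators
  let I : Subgroup G :=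
    { carrier := {g | ∃ x ∈ A, b * x * b⁻¹ * x⁻¹ = g}
      mul_mem' := by
        rintro _ _ ⟨x, hx, rfl⟩ ⟨y, hy, rfl⟩
        refine ⟨x * y, A.mul_mem hx hy, ?_⟩
        have h1 := hAc x⁻¹ (A.inv_mem hx) (b * y * b⁻¹ * y⁻¹) (hψA y hy)
        calc b * (x * y) * b⁻¹ * (x * y)⁻¹
            = b * x * b⁻¹ * ((b * y * b⁻¹ * y⁻¹) * x⁻¹) := by group
          _ = b * x * b⁻¹ * (x⁻¹ * (b * y * b⁻¹ * y⁻¹)) := by rw [h1]
          _ = b * x * b⁻¹ * x⁻¹ * (b * y * b⁻¹ * y⁻¹) := by group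
      one_mem' := ⟨1, A.one_mem, by group⟩
      inv_mem' := by
        rintro _ ⟨x, hx, rfl⟩
        refine ⟨x⁻¹, A.inv_mem hx, ?_⟩
        have h1 := hAc x hx (b * x⁻¹ * b⁻¹) (hbA x⁻¹ (A.inv_mem hx))
        calc b * x⁻¹ * b⁻¹ * x⁻¹⁻¹ = (b * x⁻¹ * b⁻¹) * x := by group
          _ = x * (b * x⁻¹ * b⁻¹) := h1.symm
          _ = (b * x * b⁻¹ * x⁻¹)⁻¹ := by group }
  have hI : ∀ g, g ∈ I ↔ ∃ x ∈ A, b * x * b⁻¹ * x⁻¹ = g := fun g => Iff.rfl
  have hIA : I ≤ A := by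
    rintro _ ⟨x, hx, rfl⟩
    exact hψA x hx
  have hbN : b ∈ Subgroup.normalizer (I : Set G) := by
    apply Cfsg.Agent.Lib.Helper75.BG.mem_normalizer_of_map_le
    rintro _ ⟨_, ⟨x, hx, rfl⟩, rfl⟩
    refine ⟨b * x * b⁻¹, hbA x hx, ?_⟩
    change _ = b * (b * x * b⁻¹ * x⁻¹) * b⁻¹
    group
  have hAN : A ≤ Subgroup.normalizer (I : Set G) := by
    intro a ha
    apply Cfsg.Agent.Lib.Helper75.BG.mem_normalizer_of_map_le
    rintro _ ⟨n, hn, rfl⟩
    change a * n * a⁻¹ ∈ I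
    have h1 := hAc a ha n (hIA hn)
    have h2 : a * n * a⁻¹ = n := by rw [h1]; group
    rw [h2]; exact hn
  have hEle : ∀ T : Set G, A ≤ commSub I T → b ∈ commSub I T → E ≤ commSub I T :=
    fun T h1 h2 => hE.trans (sup_le h1 (Subgroup.zpowers_le.mpr h2))
  -- Step A
  have hA : E ≤ commSub I (A : Set G) := by
    apply hEle
    · intro a ha
      refine ⟨hAN ha, fun t ht => ?_⟩
      have h1 := hAc a ha t ht
      have h2 : a * t * a⁻¹ * t⁻¹ = 1 := by rw [h1]; group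
      rw [h2]; exact I.one_mem
    · exact ⟨hbN, fun t ht => ⟨t, ht, rfl⟩⟩
  -- Step B
  have hB : E ≤ commSub I ({b} : Set G) := by
    apply hEle
    · intro a ha
      refine ⟨hAN ha, fun t ht => ?_⟩
      rw [Set.mem_singleton_iff] at ht
      subst ht
      have h1 : a * t * a⁻¹ * t⁻¹ = (t * a * t⁻¹ * a⁻¹)⁻¹ := by group
      rw [h1]
      exact I.inv_mem ⟨a, ha, rfl⟩
    · refine ⟨hbN, fun t ht => ?_⟩
      rw [Set.mem_singleton_iff] at ht
      subst ht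
      have h1 : t * t * t⁻¹ * t⁻¹ = 1 := by group
      rw [h1]; exact I.one_mem
  -- Step C
  have hC : E ≤ commSub I (E : Set G) := by
    apply hEle
    · intro a ha
      refine ⟨hAN ha, fun t ht => ?_⟩
      have h1 : a * t * a⁻¹ * t⁻¹ = (t * a * t⁻¹ * a⁻¹)⁻¹ := by group
      rw [h1]
      exact I.inv_mem ((hA ht).2 a ha)
    · refine ⟨hbN, fun t ht => ?_⟩
      have h1 : b * t * b⁻¹ * t⁻¹ = (t * b * t⁻¹ * b⁻¹)⁻¹ := by group
      rw [h1]
      exact I.inv_mem ((hB ht).2 b rfl)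
  have hcomm : ⁅E, E⁆ ≤ I := by
    rw [Subgroup.commutator_le]
    intro g₁ hg₁ g₂ hg₂
    rw [commutatorElement_def]
    exact (hC hg₁).2 g₂ hg₂
  -- the commutator map is surjective, hence injective
  let ψ : A → A := fun x => ⟨b * x * b⁻¹ * (x : G)⁻¹, hψA x x.2⟩
  have hsurj : Function.Surjective ψ := by
    intro y
    obtain ⟨x, hx, hxy⟩ := hcomm (hAcomm y.2)
    exact ⟨⟨x, hx⟩, Subtype.ext hxy⟩
  have hinj : Function.Injective ψ := Finite.injective_iff_surjective.mpr hsurj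
  intro x hx hbx
  have h1 : ψ ⟨x, hx⟩ = ψ ⟨1, A.one_mem⟩ := by
    apply Subtype.ext
    change b * x * b⁻¹ * x⁻¹ = b * 1 * b⁻¹ * 1⁻¹
    rw [hbx]; group
  have h2 := hinj h1
  exact congrArg Subtype.val h2

end Cfsg.Agent.Lib.Helper83.BG
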