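import Mathlib
import Cfsg.Statements.S1350
import Cfsg.Statements.S1403
import Cfsg.Statements.S1405
import Cfsg.Statements.S1414
import Cfsg.Statements.S1415
import Cfsg.Statements.S1417
import Cfsg.Statements.S1423
import Cfsg.Statements.S1426
import Cfsg.Statements.S1427
import Cfsg.Statements.S1428
import Cfsg.Agent.Lib.Helper83.BG.SigGen
import Cfsg.Agent.Lib.Helper27.BG.SigmaBasic
import Cfsg.Agent.Lib.Helper74.BG.S1425Core
import Cfsg.Agent.Lib.Helper78.BG.S1405Core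
import Cfsg.Agent.Lib.Helper97.FrobFormula
import Cfsg.Agent.Lib.Helper16.BG.NilHall
import Cfsg.Agent.Lib.Helper1.SZInternal
import Cfsg.Agent.Lib.Helper13.BG.S1427B
import Cfsg.Agent.Lib.Helper76.BG.S1420Core

/-!
Bender–Glauberman 13.9 (the sigma-partition) without S1430, part 1: the configuration of two
non-conjugate maximal subgroups `M`, `Ms` containing the normalizer of a common Sylow
`q`-subgroup `S` of `G`, and its first consequences.  (The configuration and the first lemmas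
follow helper27's `S1378Core`; they are restated here for a hypothesis list without S1430.)
-/

set_option autoImplicit false

namespace Cfsg.Agent.Lib.Helper83.BG

open Cfsg Cfsg.Agent.Lib.Helper46 Cfsg.Agent.Lib.Helper35.BG Cfsg.Agent.Lib.Helper27.BG

/-- The earlier statements used in the structure part of the proof of the sigma-partition. -/
structure SHyp {G : Type*} [Group G] [Finite G] (hG : Cfsg.IsMinSimpleOddOrder G) : Prop where
  h1350 : type_of% (@Cfsg.CfsgFrozen.S1350 G _ _ hG)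
  h1403 : type_of% (@Cfsg.CfsgFrozen.S1403 G _ _ hG)
  h1405 : type_of% (@Cfsg.CfsgFrozen.S1405 G _ _ hG)
  h1414 : type_of% (@Cfsg.CfsgFrozen.S1414 G _ _ hG)
  h1415 : type_of% (@Cfsg.CfsgFrozen.S1415 G _ _ hG)
  h1417 : type_of% (@Cfsg.CfsgFrozen.S1417 G _ _ hG)
  h1423 : type_of% (@Cfsg.CfsgFrozen.S1423 G _ _ hG)
  h1426 : type_of% (@Cfsg.CfsgFrozen.S1426 G _ _ hG)
  h1427 : type_of% (@Cfsg.CfsgFrozen.S1427 G _ _ hG)
  h1428 : type_of% (@Cfsg.CfsgFrozen.S1428 G _ _ hG)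

/-- The configuration to be refuted: two non-conjugate maximal subgroups `M`, `Ms` containing the
normalizer of a common nontrivial Sylow `q`-subgroup `S` of `G`. -/
structure SCfg {G : Type*} [Group G] (M Ms S : Subgroup G) (q : ℕ) : Prop where
  hM : IsCoatom M
  hMs : IsCoatom Ms
  hq : q.Prime
  hS : IsSylowIn q S ⊤
  hS1 : S ≠ ⊥
  hSM : S ≤ M
  hSMs : S ≤ Ms
  hNM : Subgroup.normalizer (S : Set G) ≤ M
  hNMs : Subgroup.normalizer (S : Set G) ≤ Ms
  hnc : ∀ g : G, Ms ≠ M.map (MulAut.conj g).toMonoidHom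

section

variable {G : Type*} [Group G] [Finite G] {hG : Cfsg.IsMinSimpleOddOrder G}
  {M Ms S : Subgroup G} {q : ℕ}

omit [Finite G] in
theorem SCfg.symm (c : SCfg M Ms S q) : SCfg Ms M S q where
  hM := c.hMs
  hMs := c.hM
  hq := c.hq
  hS := c.hS
  hS1 := c.hS1
  hSM := c.hSMs
  hSMs := c.hSM
  hNM := c.hNMs
  hNMs := c.hNM
  hnc := by
    intro g hg
    apply c.hnc g⁻¹
    rw [hg, Cfsg.Agent.Lib.Helper35.BG.map_conj_mul, inv_mul_cancel,
      Cfsg.Agent.Lib.Helper35.BG.map_conj_one]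

omit [Finite G] in
theorem SCfg.ne (c : SCfg M Ms S q) : M ≠ Ms := by
  intro h
  apply c.hnc 1
  rw [Cfsg.Agent.Lib.Helper35.BG.map_conj_one]
  exact h.symm

theorem SCfg.sylM (c : SCfg M Ms S q) : IsSylowIn q S M := by
  have : Fact q.Prime := ⟨c.hq⟩
  exact sylIn_mono c.hS c.hSM le_top

omit [Finite G] in
theorem SCfg.pgroup (c : SCfg M Ms S q) : IsPGroup q S := by
  have : Fact q.Prime := ⟨c.hq⟩
  exact sylIn_isPGroup c.hS

theorem SCfg.mem_sigma (c : SCfg M Ms S q) : q ∈ sigma M := by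
  have : Fact q.Prime := ⟨c.hq⟩
  refine mem_sigma_of_isSylowIn c.sylM ?_ c.hNM
  exact (Cfsg.Agent.Lib.Helper67.BG.dvd_card_of_isPGroup_ne_bot c.pgroup c.hS1).trans
    (Subgroup.card_dvd_of_le c.hSM)

theorem SCfg.le_sigmaCore (h : SHyp hG) (c : SCfg M Ms S q) : S ≤ sigmaCore M := by
  have : Fact q.Prime := ⟨c.hq⟩
  have hHall := (h.h1350 M c.hM).1
  refine Cfsg.Agent.Lib.Helper74.BG.le_of_isPiHallOf_of_normal hHall
    (Cfsg.Agent.Lib.Helper67.BG.sigmaCore_normalizer M) c.hSM ?_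
  intro p hp hdvd
  have := Cfsg.Agent.Lib.Helper67.BG.prime_eq_of_dvd_card_isPGroup c.pgroup hp hdvd
  rw [this]; exact c.mem_sigma

theorem SCfg.sylσ (h : SHyp hG) (c : SCfg M Ms S q) : IsSylowIn q S (sigmaCore M) := by
  have : Fact q.Prime := ⟨c.hq⟩
  exact sylIn_mono c.hS (c.le_sigmaCore h) le_top

/-- A prime of `σ(Ms)` is not in `α(M)`. -/
theorem SCfg.not_alpha_of_sigma (h : SHyp hG) (c : SCfg M Ms S q) {r : ℕ} (hr : r ∈ sigma Ms) :
    r ∉ alpha M := by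
  intro hα
  obtain ⟨hrp, hrk⟩ := hα
  have : Fact r.Prime := ⟨hrp⟩
  obtain ⟨g, hg⟩ := Cfsg.Agent.Lib.Helper74.BG.conj_of_sigma_of_rank3 hG h.h1403 c.hMs c.hM hr hrk
  exact c.symm.hnc g hg

/-- `S ∩ (M_σ)' = 1`. -/
theorem SCfg.inf_commutator (h : SHyp hG) (c : SCfg M Ms S q) :
    S ⊓ ⁅sigmaCore M, sigmaCore M⁆ = ⊥ := by
  have : Fact q.Prime := ⟨c.hq⟩
  by_contra hne
  have hpg : IsPGroup q ↥(S ⊓ ⁅sigmaCore M, sigmaCore M⁆) := c.pgroup.to_le inf_le_left
  have hdvd : q ∣ Nat.card ↥(S ⊓ ⁅sigmaCore M, sigmaCore M⁆) :=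
    Cfsg.Agent.Lib.Helper67.BG.dvd_card_of_isPGroup_ne_bot hpg hne
  obtain ⟨x, hx⟩ := exists_prime_orderOf_dvd_card' q hdvd
  have hx' : orderOf (x : G) = q := by rw [Subgroup.orderOf_coe, hx]
  have hXcard : Nat.card (Subgroup.zpowers (x : G)) = q := card_zpowers_of_orderOf hx'
  have hXle : Subgroup.zpowers (x : G) ≤ S ⊓ ⁅sigmaCore M, sigmaCore M⁆ := by
    rw [Subgroup.zpowers_le]; exact x.2
  obtain ⟨P, hP⟩ := (c.sylσ h).exists_sylow
  have key := (h.h1423 M c.hM q c.mem_sigma (Subgroup.zpowers (x : G))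
    (hXle.trans (inf_le_left.trans c.hSM)) hXcard P (Or.inr (hXle.trans inf_le_right))).2.1
  rw [hP] at key
  exact c.ne (key.unique ⟨c.hM, c.hSM⟩ ⟨c.hMs, c.hSMs⟩)

/-- `M_σ` is not nilpotent. -/
theorem SCfg.not_nilpotent (h : SHyp hG) (c : SCfg M Ms S q) :
    ¬ Group.IsNilpotent (sigmaCore M) := by
  have : Fact q.Prime := ⟨c.hq⟩
  intro hnil
  have hSσ := c.sylσ h
  have h1 : sigmaCore M ≤ Subgroup.normalizer (S : Set G) :=
    Cfsg.Agent.Lib.Helper74.BG.le_normalizer_of_isSylowIn_of_nilpotent hnil hSσ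
  have h2 : M ≤ Subgroup.normalizer (S : Set G) := by
    intro m hm
    apply mem_normalizer_of_map_conj_eq
    have hSm : IsSylowIn q (S.map (MulAut.conj m).toMonoidHom) (sigmaCore M) := by
      have := sylIn_map_conj hSσ m
      rwa [map_conj_eq_of_mem_normalizer
        (Cfsg.Agent.Lib.Helper67.BG.sigmaCore_normalizer M hm)] at this
    have hle : S ≤ S.map (MulAut.conj m).toMonoidHom :=
      sylIn_normal_le hSm c.pgroup hSσ.1 h1
    exact sylIn_eq_of_le hSσ (isPGroup_map_conj c.pgroup m) hSm.1 hle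
  have h3 : M ≤ Ms := h2.trans c.hNMs
  rcases eq_or_lt_of_le h3 with h4 | h4
  · exact c.ne h4
  · exact c.hMs.1 (c.hM.2 Ms h4)

/-- A complement of `M_σ` in `M` inside `N_G(S)`. -/
theorem SCfg.exists_compl (h : SHyp hG) (c : SCfg M Ms S q) :
    ∃ E : Subgroup G, E ≤ Subgroup.normalizer (S : Set G) ∧ IsComplIn E (sigmaCore M) M := by
  have : Fact q.Prime := ⟨c.hq⟩
  have hσn := Cfsg.Agent.Lib.Helper67.BG.sigmaCore_normalizer M
  have hσle := Cfsg.Agent.Lib.Helper67.BG.sigmaCore_le M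
  have hHall := (h.h1350 M c.hM).1
  have hDH : Subgroup.normalizer (S : Set G) ⊓ sigmaCore M ≤ Subgroup.normalizer (S : Set G) :=
    inf_le_left
  have hnorm : Subgroup.normalizer (S : Set G) ≤
      Subgroup.normalizer ((Subgroup.normalizer (S : Set G) ⊓ sigmaCore M : Subgroup G) : Set G) := by
    intro x hx
    have hx2 := hσn (c.hNM hx)
    rw [Subgroup.mem_normalizer_iff] at hx2 ⊢
    intro y
    constructor
    · rintro ⟨hy1, hy2⟩
      exact ⟨Subgroup.mul_mem _ (Subgroup.mul_mem _ hx hy1) (Subgroup.inv_mem _ hx),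
        (hx2 y).mp hy2⟩
    · rintro ⟨hy1, hy2⟩
      refine ⟨?_, (hx2 y).mpr hy2⟩
      have : y = x⁻¹ * (x * y * x⁻¹) * x := by group
      rw [this]
      exact Subgroup.mul_mem _ (Subgroup.mul_mem _ (Subgroup.inv_mem _ hx) hy1) hx
  have hcop : (Nat.card ↥(Subgroup.normalizer (S : Set G) ⊓ sigmaCore M)).Coprime
      ((Subgroup.normalizer (S : Set G) ⊓ sigmaCore M).relIndex
        (Subgroup.normalizer (S : Set G))) := by
    apply Nat.Coprime.symm
    apply Nat.coprime_of_dvd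
    intro p hp hd1 hd2
    have h1 : p ∣ (sigmaCore M).relIndex M := by
      rw [Subgroup.inf_relIndex_left] at hd1
      exact hd1.trans (relIndex_dvd_relIndex_of_le hσle c.hNM hσn)
    have h2 : p ∈ sigma M :=
      hHall.2.1 p hp (hd2.trans (Subgroup.card_dvd_of_le inf_le_right))
    exact hHall.2.2 p hp h2 h1
  obtain ⟨E, hE⟩ := exists_isComplIn_of_coprime hDH hnorm hcop
  refine ⟨E, hE.2.1, hE.2.1.trans c.hNM, hσle, ?_, ?_⟩
  · rw [eq_bot_iff]
    intro x hx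
    have : x ∈ (Subgroup.normalizer (S : Set G) ⊓ sigmaCore M) ⊓ E :=
      ⟨⟨hE.2.1 hx.1, hx.2⟩, hx.1⟩
    rw [hE.2.2.1] at this
    exact this
  · intro m hm
    obtain ⟨k, hk, hkm⟩ := Cfsg.Agent.Lib.Helper74.BG.frattini_arg (c.sylσ h) (hσn hm)
    obtain ⟨a, ha, b, hb, hab⟩ := hE.2.2.2 (k⁻¹ * m) hkm
    refine ⟨b, hb, b⁻¹ * (k * a) * b, ?_, ?_⟩
    · have hbM : b ∈ M := c.hNM (hE.2.1 hb)
      have hn := hσn (M.inv_mem hbM)
      have := (Subgroup.mem_normalizer_iff.mp hn (k * a)).mp (Subgroup.mul_mem _ hk ha.2)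
      simpa using this
    · have : m = k * (a * b) := by rw [← hab]; group
      rw [this]; group

/-- `O_β(M) ≤ M_σ`. -/
theorem betaCore_le_sigmaCore' (h : SHyp hG) {M : Subgroup G} (hM : IsCoatom M) :
    piCoreOf (beta M) M ≤ sigmaCore M := by
  refine Cfsg.Agent.Lib.Helper74.BG.le_of_isPiHallOf_of_normal (h.h1350 M hM).1
    (Cfsg.Agent.Lib.Helper67.BG.sigmaCore_normalizer M) (piCoreOf_le _ M) ?_
  intro p hp hdvd
  have hβ : p ∈ beta M := (h.h1414 M hM).1.2.1 p hp hdvd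
  exact Cfsg.Agent.Lib.Helper78.BG.alpha_subset_sigma hG h.h1403 M hM hβ.1

/-- `O_β(M) ≠ 1`. -/
theorem SCfg.betaCore_ne_bot (h : SHyp hG) (c : SCfg M Ms S q) : piCoreOf (beta M) M ≠ ⊥ := by
  intro hbot
  obtain ⟨hβHall, -, -, ⟨W, hW, hWnil⟩, -⟩ := h.h1414 M c.hM
  have hrel : W.relIndex (sigmaCore M) = 1 := by
    by_contra hne
    obtain ⟨p, hp, hdvd⟩ := Nat.exists_prime_and_dvd hne
    have hpβ : p ∈ beta M := by
      by_contra hpβ
      exact hW.2.2 p hp ⟨hp, hpβ⟩ hdvd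
    apply hβHall.2.2 p hp hpβ
    rw [hbot, Subgroup.relIndex_bot_left]
    have h1 : Nat.card W * W.relIndex (sigmaCore M) = Nat.card (sigmaCore M) :=
      card_mul_relIndex' hW.1
    exact (hdvd.trans (Dvd.intro_left _ h1)).trans
      (Subgroup.card_dvd_of_le (Cfsg.Agent.Lib.Helper67.BG.sigmaCore_le M))
  have hle : sigmaCore M ≤ W := Subgroup.relIndex_eq_one.mp hrel
  exact c.not_nilpotent h (Cfsg.Agent.Lib.Helper16.BG.isNilpotent_of_le' hWnil hle)

/-- Every prime outside `σ(M)` has rank at most one in `M`. -/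
theorem SCfg.rank_one (h : SHyp hG) (c : SCfg M Ms S q) {p : ℕ} (hp : p.Prime)
    (hpσ : p ∉ sigma M) : PRankLE p 1 M := by
  by_contra hr1
  have : Fact p.Prime := ⟨hp⟩
  have hr2 : PRankLE p 2 M := by
    by_contra hr2
    exact hpσ (Cfsg.Agent.Lib.Helper78.BG.alpha_subset_sigma hG h.h1403 M c.hM ⟨hp, hr2⟩)
  obtain ⟨A, hAM, hAea, hAcard⟩ :=
    Cfsg.Agent.Lib.Helper76.BG.exists_ea_sq_of_not_rank_one M p hr1
  exact c.not_nilpotent h
    (h.h1417 M c.hM p ⟨hp, hpσ, hr2, hr1⟩ A ⟨hAM, hAea, hAcard⟩).1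

/-- A complement of `M_σ` is a `σ(M)'`-group. -/
theorem compl_not_sigma (h : SHyp hG) {M E : Subgroup G} (hM : IsCoatom M)
    (hE : IsComplIn E (sigmaCore M) M) {p : ℕ} (hp : p.Prime) (hd : p ∣ Nat.card E) :
    p ∉ sigma M := by
  intro hσ
  apply (h.h1350 M hM).1.2.2 p hp hσ
  rw [relIndex_right_of_isComplIn hE]; exact hd

/-- The primes dividing the order of a complement of `M_σ` lie in `τ₁(M) ∪ τ₃(M)`. -/
theorem SCfg.compl_tau (h : SHyp hG) (c : SCfg M Ms S q) {E : Subgroup G}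
    (hE : IsComplIn E (sigmaCore M) M) {p : ℕ} (hp : p.Prime) (hd : p ∣ Nat.card E) :
    p ∈ tau1 M ∨ p ∈ tau3 M := by
  have hσ := compl_not_sigma h c.hM hE hp hd
  have hr := c.rank_one h hp hσ
  have hdM : p ∣ Nat.card M := hd.trans (Subgroup.card_dvd_of_le hE.1)
  by_cases hc : p ∣ Nat.card ↥⁅M, M⁆
  · exact Or.inr ⟨hp, hσ, hc, hr⟩
  · exact Or.inl ⟨hp, hσ, hdM, hc, hr⟩

omit [Finite G] hG in
/-- A common element of a `q`-group and of a group of order prime to `q` is trivial. -/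
theorem eq_one_of_mem_pgroup_of_not_dvd {q : ℕ} (hq : q.Prime) {S N : Subgroup G}
    (hS : IsPGroup q S) (hN : ¬ q ∣ Nat.card N) {y : G} (hyS : y ∈ S) (hyN : y ∈ N) : y = 1 := by
  obtain ⟨k, hk⟩ := hS ⟨y, hyS⟩
  have h1 : y ^ q ^ k = 1 := by simpa using congrArg Subtype.val hk
  have h2 : y ^ Nat.card N = 1 := by
    have h3 : (⟨y, hyN⟩ : N) ^ Nat.card N = 1 := pow_card_eq_one'
    have h4 := congrArg Subtype.val h3
    rwa [Subgroup.coe_pow] at h4
  have hcop : (q ^ k).Coprime (Nat.card N) :=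
    Nat.Coprime.pow_left k ((Nat.Prime.coprime_iff_not_dvd hq).mpr hN)
  have hd : orderOf y ∣ Nat.gcd (q ^ k) (Nat.card N) :=
    Nat.dvd_gcd (orderOf_dvd_of_pow_eq_one h1) (orderOf_dvd_of_pow_eq_one h2)
  rw [hcop] at hd
  exact orderOf_eq_one_iff.mp (Nat.dvd_one.mp hd)

/-- `M_σ ≤ M'`. -/
theorem sigmaCore_le_commutator (h : SHyp hG) {M : Subgroup G} (hM : IsCoatom M) :
    sigmaCore M ≤ ⁅M, M⁆ := by
  obtain ⟨E, hE⟩ := Cfsg.Agent.Lib.Helper67.BG.exists_compl_sigmaCore M (h.h1350 M hM).1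
  have h1 := (h.h1426 M hM E hE).2.1
  rw [← h1]
  exact Subgroup.commutator_mono (Cfsg.Agent.Lib.Helper67.BG.sigmaCore_le M) hE.1

omit [Finite G] in
/-- `M` normalizes its derived subgroup. -/
theorem le_normalizer_commutator (M : Subgroup G) :
    M ≤ Subgroup.normalizer ((⁅M, M⁆ : Subgroup G) : Set G) := by
  have h1 := Cfsg.Agent.Lib.Helper13.BG.le_normalizer_map_subtype (H := M) (commutator ↥M)
  rwa [Cfsg.Agent.Lib.Helper13.BG.map_commutator_subtype] at h1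

omit [Finite G] in
/-- `M' ≤ M`. -/
theorem commutator_self_le (M : Subgroup G) : (⁅M, M⁆ : Subgroup G) ≤ M := by
  rw [Subgroup.commutator_le]
  intro a ha b hb
  rw [commutatorElement_def]
  exact M.mul_mem (M.mul_mem (M.mul_mem ha hb) (M.inv_mem ha)) (M.inv_mem hb)

omit [Finite G] in
/-- `N` normalizes `N ∩ B` when it normalizes `B`. -/
theorem le_normalizer_inf_of_le_normalizer {N B : Subgroup G}
    (hB : N ≤ Subgroup.normalizer (B : Set G)) :
    N ≤ Subgroup.normalizer ((N ⊓ B : Subgroup G) : Set G) := by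
  intro x hx
  have hx2 := hB hx
  rw [Subgroup.mem_normalizer_iff] at hx2 ⊢
  intro y
  constructor
  · rintro ⟨hy1, hy2⟩
    exact ⟨Subgroup.mul_mem _ (Subgroup.mul_mem _ hx hy1) (Subgroup.inv_mem _ hx),
      (hx2 y).mp hy2⟩
  · rintro ⟨hy1, hy2⟩
    refine ⟨?_, (hx2 y).mpr hy2⟩
    have : y = x⁻¹ * (x * y * x⁻¹) * x := by group
    rw [this]
    exact Subgroup.mul_mem _ (Subgroup.mul_mem _ (Subgroup.inv_mem _ hx) hy1) hx

/-- A `q'`-element of `M' ∩ N_G(S)` centralizes `S`. -/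
theorem SCfg.comm_of_mem_commutator (h : SHyp hG) (c : SCfg M Ms S q) {x : G}
    (hxM : x ∈ ⁅M, M⁆) (hxN : x ∈ Subgroup.normalizer (S : Set G))
    (hcop : (orderOf x).Coprime q) {s : G} (hs : s ∈ S) : x * s = s * x := by
  have hsM' : s ∈ ⁅M, M⁆ := sigmaCore_le_commutator h c.hM (c.le_sigmaCore h hs)
  rw [← Cfsg.Agent.Lib.Helper13.BG.map_commutator_subtype] at hxM hsM'
  obtain ⟨x', hx', hxx'⟩ := hxM
  obtain ⟨s', hs', hss'⟩ := hsM'
  have hnil := (h.h1405 M c.hM).2.2.2.2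
  have hord : (orderOf x').Coprime (orderOf s') := by
    have h1 : orderOf x' = orderOf x := by rw [← hxx']; exact (Subgroup.orderOf_coe x').symm
    have h2 : orderOf s' = orderOf s := by rw [← hss']; exact (Subgroup.orderOf_coe s').symm
    rw [h1, h2]
    have : Fact q.Prime := ⟨c.hq⟩
    obtain ⟨k, hk⟩ := (IsPGroup.iff_orderOf.mp c.pgroup) ⟨s, hs⟩
    have h3 : orderOf s = q ^ k := by rw [← hk]; exact Subgroup.orderOf_coe (⟨s, hs⟩ : S)
    rw [h3]
    exact Nat.Coprime.pow_right k hcop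
  have hmem := Cfsg.Agent.Lib.Helper13.BG.comm_mod_of_nilpotent_image
    (piCore (alpha M) ↥M) hnil hx' hs' hord
  have hα : x * s * x⁻¹ * s⁻¹ ∈ alphaCore M := by
    refine ⟨x' * s' * x'⁻¹ * s'⁻¹, hmem, ?_⟩
    rw [← hxx', ← hss']
    rfl
  have hS' : x * s * x⁻¹ * s⁻¹ ∈ S :=
    S.mul_mem ((Subgroup.mem_normalizer_iff.mp hxN s).mp hs) (S.inv_mem hs)
  have hqα : ¬ q ∣ Nat.card (alphaCore M) := by
    intro hd
    exact c.not_alpha_of_sigma h c.symm.mem_sigma ((h.h1405 M c.hM).1.2.1 q c.hq hd)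
  have h1 := eq_one_of_mem_pgroup_of_not_dvd c.hq c.pgroup hqα hS' hα
  calc x * s = (x * s * x⁻¹ * s⁻¹) * s * x := by group
    _ = s * x := by rw [h1, one_mul]

end

end Cfsg.Agent.Lib.Helper83.BG
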