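import Mathlib
import Cfsg.Agent.Lib.Helper83.BG.SigmaPart1

/-!
Bender–Glauberman 13.9 (the sigma-partition) without S1430, part 2: the structure of a
complement `E ≤ N_G(S)` of `M_σ` in `M` (semiprime action of its cyclic Hall `τ₁(M)`-subgroup),
the one-sided `τ₁` lemma and the existence of centralized subgroups of prime order of `M_β`.
-/

set_option autoImplicit false

namespace Cfsg.Agent.Lib.Helper83.BG

open Cfsg Cfsg.Agent.Lib.Helper46 Cfsg.Agent.Lib.Helper35.BG Cfsg.Agent.Lib.Helper27.BG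

section

variable {G : Type*} [Group G] [Finite G] {hG : Cfsg.IsMinSimpleOddOrder G}
  {M Ms S : Subgroup G} {q : ℕ}

/-- Semiprime action: for `P ≤ K ≤ E` with `K` cyclic and `|P| = p ∈ τ₁(M)`, the centralizer of
`P` in `M_σ` centralizes `K`. -/
theorem semiprime (h : SHyp hG) {M : Subgroup G} (hM : IsCoatom M)
    (hrank : ∀ r : ℕ, r.Prime → r ∉ sigma M → PRankLE r 1 M)
    {E K P : Subgroup G} (hE : IsComplIn E (sigmaCore M) M) (hKE : K ≤ E) (hKc : IsCyclic K)
    (hPK : P ≤ K) {p : ℕ} (hp : p ∈ tau1 M) (hP : Nat.card P = p) :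
    sigmaCore M ⊓ Subgroup.centralizer (P : Set G) ≤ Subgroup.centralizer (K : Set G) := by
  intro y hy
  have hK : K ≤ Subgroup.centralizer ({y} : Set G) := by
    apply le_of_forall_prime_pow_mem
    rintro r hr k hk ⟨n, hn⟩
    by_cases hk1 : k = 1
    · rw [hk1]; exact Subgroup.one_mem _
    have : Fact r.Prime := ⟨hr⟩
    have hn0 : n ≠ 0 := by
      rintro rfl
      rw [pow_zero] at hn
      exact hk1 (orderOf_eq_one_iff.mp hn)
    have hrd : r ∣ orderOf k := by rw [hn]; exact dvd_pow_self r hn0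
    have hx₁ : orderOf (k ^ (orderOf k / r)) = r :=
      orderOf_pow_orderOf_div (orderOf_pos k).ne' hrd
    obtain ⟨x₁, hx₁def⟩ : ∃ x₁, x₁ = k ^ (orderOf k / r) := ⟨_, rfl⟩
    rw [← hx₁def] at hx₁
    have hx₁K : x₁ ∈ K := hx₁def ▸ K.pow_mem hk _
    have hx₁1 : x₁ ≠ 1 := by
      intro h1; rw [h1, orderOf_one] at hx₁; exact hr.one_lt.ne hx₁
    have hR₁card : Nat.card (Subgroup.zpowers x₁) = r := card_zpowers_of_orderOf hx₁
    have hR₁le : Subgroup.zpowers x₁ ≤ E ⊓ Subgroup.centralizer (P : Set G) := by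
      rw [Subgroup.zpowers_le]
      refine Subgroup.mem_inf.mpr ⟨hKE hx₁K, ?_⟩
      rw [Subgroup.mem_centralizer_iff]
      intro g hg
      exact comm_of_isCyclic hKc (hPK hg) hx₁K
    have h28 := h.h1428 M hM E hE p hp P (hPK.trans hKE) hP (Subgroup.zpowers x₁) hR₁le
      (by rw [hR₁card]; exact hr)
    have hy1 : y ∈ Subgroup.centralizer ((Subgroup.zpowers x₁ : Subgroup G) : Set G) :=
      (Subgroup.mem_inf.mp (h28 hy)).2
    have hkE : k ∈ E := hKE hk
    have hkp : IsPGroup r (Subgroup.zpowers (⟨k, hkE⟩ : E)) := by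
      refine IsPGroup.of_card (n := n) ?_
      rw [Nat.card_zpowers, ← hn]
      exact (Subgroup.orderOf_coe (⟨k, hkE⟩ : E)).symm
    obtain ⟨Q, hQ⟩ := hkp.exists_le_sylow
    have hrE : r ∣ Nat.card E := hrd.trans (Subgroup.orderOf_dvd_natCard _ hkE)
    have hrσ : r ∉ sigma M := compl_not_sigma h hM hE hr hrE
    have hr2 : r ≠ 2 := Cfsg.Agent.Lib.Helper13.BG.prime_ne_two13 hG hrE
    have hQc : IsCyclic (Q : Subgroup E) :=
      Cfsg.Agent.Lib.Helper75.BG.isCyclic_sylow_of_rank_one M E hE.1 r hr2 (hrank r hr hrσ) Q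
    have hkQ' : (⟨k, hkE⟩ : E) ∈ (Q : Subgroup E) := hQ (Subgroup.mem_zpowers _)
    have hQ1 : (Q : Subgroup E) ≠ ⊥ := by
      intro hbot
      rw [hbot, Subgroup.mem_bot] at hkQ'
      exact hk1 (congrArg Subtype.val hkQ')
    have hkQ : k ∈ (Q : Subgroup E).map E.subtype := ⟨⟨k, hkE⟩, hkQ', rfl⟩
    have hx₁Q : x₁ ∈ (Q : Subgroup E).map E.subtype := by
      rw [hx₁def]; exact Subgroup.pow_mem _ hkQ _
    have h27 := h.h1427 M hM E hE r Q hQ1 hQc x₁ hx₁Q hx₁1
    have hy2 : y ∈ sigmaCore M ⊓ Subgroup.centralizer ({x₁} : Set G) := by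
      refine Subgroup.mem_inf.mpr ⟨(Subgroup.mem_inf.mp hy).1, ?_⟩
      rw [Subgroup.mem_centralizer_iff] at hy1 ⊢
      intro g hg
      rw [Set.mem_singleton_iff] at hg
      rw [hg]; exact hy1 x₁ (Subgroup.mem_zpowers x₁)
    rw [h27] at hy2
    have hy3 := (Subgroup.mem_inf.mp hy2).2
    rw [Subgroup.mem_centralizer_iff] at hy3
    rw [Subgroup.mem_centralizer_iff]
    intro g hg
    rw [Set.mem_singleton_iff] at hg
    rw [hg]
    exact (hy3 k hkQ).symm
  rw [Subgroup.mem_centralizer_iff]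
  intro g hg
  have h1 := hK hg
  rw [Subgroup.mem_centralizer_iff] at h1
  exact (h1 y rfl).symm

/-- The structure of a complement `E ≤ N_G(S)` of `M_σ` in `M`: `K = ⟨b⟩` is a Hall
`τ₁(M)`-subgroup of `E` acting fixed-point-freely on `S`, and `E₃ ⊇ C_E(S)` is a subgroup of `E`
on which `b` has no nontrivial fixed point. -/
structure EData {G : Type*} [Group G] (M S E K E₃ : Subgroup G) (b : G) : Prop where
  hEN : E ≤ Subgroup.normalizer (S : Set G)
  hE : IsComplIn E (sigmaCore M) M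
  hK : IsPiHallOf (tau1 M) K E
  hKc : IsCyclic K
  hbK : b ∈ K
  hKb : K ≤ Subgroup.zpowers b
  hCS : E ⊓ Subgroup.centralizer (S : Set G) ≤ E₃
  hE₃E : E₃ ≤ E
  hfix : ∀ x ∈ E₃, b * x = x * b → x = 1
  hfpf : ∀ x ∈ K, x ≠ 1 → ∀ s ∈ S, x * s = s * x → s = 1
  hK1 : K ≠ ⊥

/-- Existence of the structure `EData`, with `K` containing a prescribed `τ₁(M)`-subgroup of
`N_G(S)`. -/
theorem SCfg.exists_edata (h : SHyp hG) (c : SCfg M Ms S q) (X : Subgroup G)
    (hXN : X ≤ Subgroup.normalizer (S : Set G))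
    (hXτ : ∀ p : ℕ, p.Prime → p ∣ Nat.card X → p ∈ tau1 M) :
    ∃ (E K E₃ : Subgroup G) (b : G), EData M S E K E₃ b ∧ X ≤ K := by
  have : Fact q.Prime := ⟨c.hq⟩
  have hσn := Cfsg.Agent.Lib.Helper67.BG.sigmaCore_normalizer M
  have hσle := Cfsg.Agent.Lib.Helper67.BG.sigmaCore_le M
  have hHall := (h.h1350 M c.hM).1
  have hMsolv : Group.IsSolvable M := isSolvable_of_ne_top hG c.hM.1
  obtain ⟨E₀, hE₀N, hE₀⟩ := c.exists_compl h
  have hNsolv : Group.IsSolvable (Subgroup.normalizer (S : Set G)) :=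
    Cfsg.Agent.Lib.Helper1.isSolvable_of_le c.hNM hMsolv
  have hrel : E₀.relIndex (Subgroup.normalizer (S : Set G)) ∣
      Nat.card ↥(Subgroup.normalizer (S : Set G) ⊓ sigmaCore M) := by
    apply Cfsg.Agent.Lib.Helper74.BG.relIndex_dvd_card_of_forall_mul inf_le_left
      (le_normalizer_inf_of_le_normalizer (c.hNM.trans hσn))
    intro l hl
    obtain ⟨a, ha, b', hb', hab⟩ := hE₀.2.2.2 l⁻¹ (M.inv_mem (c.hNM hl))
    have h1 : b'⁻¹ = l * a := by
      have h2 : b' = a⁻¹ * l⁻¹ := by rw [hab]; group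
      rw [h2]; group
    refine ⟨b'⁻¹, ⟨?_, Subgroup.inv_mem _ hb'⟩, a⁻¹, Subgroup.inv_mem _ ha, ?_⟩
    · rw [h1]; exact Subgroup.mul_mem _ hl (hE₀N ha)
    · rw [h1]; group
  have hcop : (Nat.card X).Coprime (E₀.relIndex (Subgroup.normalizer (S : Set G))) := by
    apply Nat.Coprime.coprime_dvd_right hrel
    apply Nat.coprime_of_dvd
    intro p hp hd1 hd2
    have h1 : p ∈ sigma M := hHall.2.1 p hp (hd2.trans (Subgroup.card_dvd_of_le inf_le_right))
    exact (hXτ p hp hd1).2.1 h1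
  obtain ⟨n, hn, hXn⟩ :=
    Cfsg.Agent.Lib.Helper74.BG.exists_mem_conj_le_of_coprime_relIndex hNsolv hXN hcop
  obtain ⟨E, hEdef⟩ : ∃ E, E = E₀.map (MulAut.conj n⁻¹).toMonoidHom := ⟨_, rfl⟩
  have hEN : E ≤ Subgroup.normalizer (S : Set G) := by
    rw [hEdef]
    have h1 := Subgroup.map_mono (f := (MulAut.conj n⁻¹).toMonoidHom) hE₀N
    rwa [map_conj_eq_of_mem (Subgroup.inv_mem _ hn)] at h1
  have hE : IsComplIn E (sigmaCore M) M := by
    rw [hEdef]
    exact isComplIn_map_conj' hE₀ (M.inv_mem (c.hNM hn)) hσn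
  have hXE : X ≤ E := by
    have h1 : X = (X.map (MulAut.conj n).toMonoidHom).map (MulAut.conj n⁻¹).toMonoidHom := by
      rw [Cfsg.Agent.Lib.Helper35.BG.map_conj_mul, inv_mul_cancel,
        Cfsg.Agent.Lib.Helper35.BG.map_conj_one]
    rw [h1, hEdef]
    exact Subgroup.map_mono hXn
  have hEsolv : Group.IsSolvable E := Cfsg.Agent.Lib.Helper1.isSolvable_of_le hE.1 hMsolv
  obtain ⟨K, hK, hXK⟩ :=
    Cfsg.Agent.Lib.Helper67.BG.exists_piHallOf_ge (tau1 M) E hEsolv X hXE hXτ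
  obtain ⟨E₃, hE₃, -⟩ :=
    Cfsg.Agent.Lib.Helper67.BG.exists_piHallOf_ge (tau3 M) E hEsolv ⊥ bot_le (by
      intro p hp hd
      rw [Subgroup.card_bot] at hd
      exact absurd (Nat.dvd_one.mp hd) hp.one_lt.ne')
  obtain ⟨-, h15a, h15b⟩ := h.h1415 M c.hM E hE
  have hKc : IsCyclic K := h15a K hK
  obtain ⟨hE₃c, hE₃comm, hE₃n⟩ := h15b E₃ hE₃
  obtain ⟨g, hg⟩ := id hKc
  have hKb : K ≤ Subgroup.zpowers (g : G) := by
    intro x hx
    obtain ⟨m, hm⟩ := Subgroup.mem_zpowers_iff.mp (hg ⟨x, hx⟩)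
    rw [Subgroup.mem_zpowers_iff]
    exact ⟨m, by simpa using congrArg Subtype.val hm⟩
  have hEsup : E ≤ E₃ ⊔ K := by
    rw [← Subgroup.relIndex_eq_one]
    by_contra hne
    obtain ⟨p, hp, hd⟩ := Nat.exists_prime_and_dvd hne
    have hdE : p ∣ Nat.card E := hd.trans (Subgroup.relIndex_dvd_card _ _)
    rcases c.compl_tau h hE hp hdE with h1 | h3
    · exact hK.2.2 p hp h1 (hd.trans (Subgroup.relIndex_dvd_of_le_left E le_sup_right))
    · exact hE₃.2.2 p hp h3 (hd.trans (Subgroup.relIndex_dvd_of_le_left E le_sup_left))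
  have hqE : ¬ q ∣ Nat.card E := fun hd => compl_not_sigma h c.hM hE c.hq hd c.mem_sigma
  have hE₃S : E₃ ≤ Subgroup.centralizer (S : Set G) := by
    intro x hx
    rw [Subgroup.mem_centralizer_iff]
    intro s hs
    have hxE : x ∈ E := hE₃.1 hx
    have hcop' : (orderOf x).Coprime q := by
      rw [Nat.coprime_comm, Nat.Prime.coprime_iff_not_dvd c.hq]
      exact fun hd => hqE (hd.trans (Subgroup.orderOf_dvd_natCard _ hxE))
    exact (c.comm_of_mem_commutator h (Subgroup.commutator_mono hE.1 hE.1 (hE₃comm hx))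
      (hEN hxE) hcop' hs).symm
  have hSE : ∀ s ∈ S, (∀ e ∈ E, e * s = s * e) → s = 1 := by
    intro s hs hc
    have h1 : s ∈ sigmaCore M ⊓ Subgroup.centralizer (E : Set G) := by
      refine Subgroup.mem_inf.mpr ⟨c.le_sigmaCore h hs, ?_⟩
      rw [Subgroup.mem_centralizer_iff]
      exact hc
    have h2 := (h.h1426 M c.hM E hE).1 h1
    have h3 : s ∈ S ⊓ ⁅sigmaCore M, sigmaCore M⁆ := ⟨hs, h2⟩
    rw [c.inf_commutator h] at h3
    exact Subgroup.mem_bot.mp h3
  have hSK : ∀ s ∈ S, (∀ k ∈ K, k * s = s * k) → s = 1 := by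
    intro s hs hc
    apply hSE s hs
    have hle : E ≤ Subgroup.centralizer ({s} : Set G) := by
      refine hEsup.trans (sup_le ?_ ?_)
      · intro x hx
        rw [Subgroup.mem_centralizer_iff]
        intro y hy
        rw [Set.mem_singleton_iff] at hy
        rw [hy]
        have h1 := hE₃S hx
        rw [Subgroup.mem_centralizer_iff] at h1
        exact h1 s hs
      · intro x hx
        rw [Subgroup.mem_centralizer_iff]
        intro y hy
        rw [Set.mem_singleton_iff] at hy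
        rw [hy]
        exact (hc x hx).symm
    intro e he
    have h1 := hle he
    rw [Subgroup.mem_centralizer_iff] at h1
    exact (h1 s rfl).symm
  have hK1 : K ≠ ⊥ := by
    intro hbot
    apply c.hS1
    rw [Subgroup.eq_bot_iff_forall]
    intro s hs
    apply hSK s hs
    intro k hk
    rw [hbot, Subgroup.mem_bot] at hk
    rw [hk, one_mul, mul_one]
  have hrank : ∀ r : ℕ, r.Prime → r ∉ sigma M → PRankLE r 1 M :=
    fun r hr hrσ => c.rank_one h hr hrσ
  have hfpf : ∀ x ∈ K, x ≠ 1 → ∀ s ∈ S, x * s = s * x → s = 1 := by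
    intro x hx hx1 s hs hxs
    have hord : orderOf x ≠ 1 := fun h1 => hx1 (orderOf_eq_one_iff.mp h1)
    obtain ⟨p, hp, hpd⟩ := Nat.exists_prime_and_dvd hord
    have hy : orderOf (x ^ (orderOf x / p)) = p :=
      orderOf_pow_orderOf_div (orderOf_pos x).ne' hpd
    obtain ⟨y, hydef⟩ : ∃ y, y = x ^ (orderOf x / p) := ⟨_, rfl⟩
    rw [← hydef] at hy
    have hyK : y ∈ K := hydef ▸ K.pow_mem hx _
    have hPcard : Nat.card (Subgroup.zpowers y) = p := card_zpowers_of_orderOf hy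
    have hPK : Subgroup.zpowers y ≤ K := Subgroup.zpowers_le.mpr hyK
    have hpτ : p ∈ tau1 M := hK.2.1 p hp (hPcard ▸ Subgroup.card_dvd_of_le hPK)
    have hsp := semiprime h c.hM hrank hE hK.1 hKc hPK hpτ hPcard
    have hsC : s ∈ sigmaCore M ⊓
        Subgroup.centralizer ((Subgroup.zpowers y : Subgroup G) : Set G) := by
      refine Subgroup.mem_inf.mpr ⟨c.le_sigmaCore h hs, ?_⟩
      apply mem_centralizer_zpowers
      rw [hydef]
      exact (Commute.pow_right (show Commute s x from hxs.symm) _).eq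
    have hsK := hsp hsC
    rw [Subgroup.mem_centralizer_iff] at hsK
    exact hSK s hs hsK
  have hCS : E ⊓ Subgroup.centralizer (S : Set G) ≤ E₃ := by
    intro x hx
    obtain ⟨hxE, hxS⟩ := Subgroup.mem_inf.mp hx
    obtain ⟨a, ha, k, hk, rfl⟩ :=
      Cfsg.Agent.Lib.Helper85.BG36.mem_sup_of_le_normalizer (hK.1.trans hE₃n) (hEsup hxE)
    have hk1 : k = 1 := by
      by_contra hk1
      apply c.hS1
      rw [Subgroup.eq_bot_iff_forall]
      intro s hs
      apply hfpf k hk hk1 s hs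
      have h1 := hE₃S ha
      rw [Subgroup.mem_centralizer_iff] at h1
      rw [Subgroup.mem_centralizer_iff] at hxS
      have h2 := hxS s hs
      have h3 := h1 s hs
      calc k * s = a⁻¹ * (a * k * s) := by group
        _ = a⁻¹ * (s * (a * k)) := by rw [h2]
        _ = a⁻¹ * (s * a) * k := by group
        _ = a⁻¹ * (a * s) * k := by rw [h3]
        _ = s * k := by group
    rw [hk1, mul_one]; exact ha
  have hfix : ∀ x ∈ E₃, (g : G) * x = x * (g : G) → x = 1 := by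
    apply eq_one_of_le_commutator (E := E)
    · exact fun x hx y hy => comm_of_isCyclic hE₃c hx hy
    · intro x hx
      exact (Subgroup.mem_normalizer_iff.mp (hE₃n (hK.1 g.2)) x).mp hx
    · exact hEsup.trans (sup_le_sup_left hKb _)
    · exact hE₃comm
  exact ⟨E, K, E₃, (g : G), ⟨hEN, hE, hK, hKc, g.2, hKb, hCS, hE₃.1, hfix, hfpf, hK1⟩, hXK⟩

/-- One-sided `τ₁` lemma: a subgroup of prime order `p` of `N_G(S)` acting nontrivially on `S`
has `p ∈ τ₁(M)`. -/
theorem SCfg.mem_tau1 (h : SHyp hG) (c : SCfg M Ms S q) {P : Subgroup G} {p : ℕ} (hp : p.Prime)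
    (hP : Nat.card P = p) (hPN : P ≤ Subgroup.normalizer (S : Set G))
    (hact : ∃ x ∈ P, ∃ s ∈ S, x * s ≠ s * x) : p ∈ tau1 M := by
  have : Fact p.Prime := ⟨hp⟩
  obtain ⟨x, hx, s, hs, hxs⟩ := hact
  have hPM : P ≤ M := hPN.trans c.hNM
  have hpσ : p ∉ sigma M := by
    intro hσ
    have hPσ : P ≤ sigmaCore M := by
      refine Cfsg.Agent.Lib.Helper74.BG.le_of_isPiHallOf_of_normal (h.h1350 M c.hM).1
        (Cfsg.Agent.Lib.Helper67.BG.sigmaCore_normalizer M) hPM ?_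
      intro r hr hd
      rw [hP] at hd
      rw [(Nat.prime_dvd_prime_iff_eq hr hp).mp hd]; exact hσ
    have hc : x * s * x⁻¹ * s⁻¹ ∈ S ⊓ ⁅sigmaCore M, sigmaCore M⁆ := by
      constructor
      · exact S.mul_mem ((Subgroup.mem_normalizer_iff.mp (hPN hx) s).mp hs) (S.inv_mem hs)
      · exact Subgroup.commutator_mem_commutator (hPσ hx) (c.le_sigmaCore h hs)
    rw [c.inf_commutator h, Subgroup.mem_bot] at hc
    apply hxs
    calc x * s = (x * s * x⁻¹ * s⁻¹) * s * x := by group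
      _ = s * x := by rw [hc, one_mul]
  have hr1 := c.rank_one h hp hpσ
  have hdM : p ∣ Nat.card M := hP ▸ Subgroup.card_dvd_of_le hPM
  refine ⟨hp, hpσ, hdM, ?_, hr1⟩
  intro hd
  obtain ⟨y, hy⟩ := exists_prime_orderOf_dvd_card' p hd
  have hy' : orderOf (y : G) = p := by rw [Subgroup.orderOf_coe, hy]
  have hP₁card : Nat.card (Subgroup.zpowers (y : G)) = p := card_zpowers_of_orderOf hy'
  have hP₁le : Subgroup.zpowers (y : G) ≤ ⁅M, M⁆ := Subgroup.zpowers_le.mpr y.2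
  have hp2 : p ≠ 2 := Cfsg.Agent.Lib.Helper13.BG.prime_ne_two13 hG hdM
  obtain ⟨m, hm, hmP⟩ := exists_conj_eq_of_card_prime hp2 hr1 hPM
    (hP₁le.trans (commutator_self_le M)) hP hP₁card
  have hPcomm : P ≤ ⁅M, M⁆ := by
    rw [← hmP]
    have h1 : (Subgroup.zpowers (y : G)).map (MulAut.conj m).toMonoidHom ≤
        (⁅M, M⁆ : Subgroup G).map (MulAut.conj m).toMonoidHom := Subgroup.map_mono hP₁le
    rwa [map_conj_eq_of_mem_normalizer (le_normalizer_commutator M hm)] at h1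
  have hq : p ≠ q := fun hpq => hpσ (hpq ▸ c.mem_sigma)
  have hcop : (orderOf x).Coprime q := by
    have h1 : orderOf x ∣ p := hP ▸ Subgroup.orderOf_dvd_natCard _ hx
    exact Nat.Coprime.coprime_dvd_left h1 ((Nat.coprime_primes hp c.hq).mpr hq)
  exact hxs (c.comm_of_mem_commutator h (hPcomm hx) (hPN hx) hcop hs)

/-- A subgroup `P` of prime order of `N_G(S)` acting fixed-point-freely on `S` centralizes a
subgroup of prime order `r ∈ β(M)` of `M`. -/
theorem SCfg.exists_beta_centralizer (h : SHyp hG) (c : SCfg M Ms S q) {P : Subgroup G} {p : ℕ}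
    (hp : p.Prime) (hP : Nat.card P = p) (hPN : P ≤ Subgroup.normalizer (S : Set G))
    (hpσ : p ∉ sigma M) (hfpf : ∀ x ∈ P, x ≠ 1 → ∀ s ∈ S, x * s = s * x → s = 1) :
    ∃ (R : Subgroup G) (r : ℕ), r ∈ beta M ∧ Nat.card R = r ∧ R ≤ M ∧
      R ≤ Subgroup.centralizer (P : Set G) := by
  have : Fact q.Prime := ⟨c.hq⟩
  obtain ⟨hβHall, -⟩ := h.h1414 M c.hM
  have hBn := le_normalizer_piCoreOf (beta M) M
  have hBM := piCoreOf_le (beta M) M
  by_contra hcon
  have hBP : piCoreOf (beta M) M ⊓ Subgroup.centralizer (P : Set G) = ⊥ := by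
    by_contra hne
    obtain ⟨R, r, hr, hR, hRle⟩ := exists_prime_card_le hne
    apply hcon
    refine ⟨R, r, ?_, hR, hRle.trans (inf_le_left.trans hBM), hRle.trans inf_le_right⟩
    apply hβHall.2.1 r hr
    rw [← hR]
    exact Subgroup.card_dvd_of_le (hRle.trans inf_le_left)
  have hUn : ∀ e ∈ P, ∀ u ∈ S, e * u * e⁻¹ ∈ S :=
    fun e he u hu => (Subgroup.mem_normalizer_iff.mp (hPN he) u).mp hu
  have hnil : Group.IsNilpotent S := c.pgroup.isNilpotent
  have hGH : S ⊔ P ≤ Subgroup.normalizer ((piCoreOf (beta M) M : Subgroup G) : Set G) :=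
    sup_le (c.hSM.trans hBn) ((hPN.trans c.hNM).trans hBn)
  have hsolv : Group.IsSolvable (piCoreOf (beta M) M) :=
    Cfsg.Agent.Lib.Helper1.isSolvable_of_le hBM (isSolvable_of_ne_top hG c.hM.1)
  have hqB : ¬ q ∣ Nat.card (piCoreOf (beta M) M) := by
    intro hd
    exact c.not_alpha_of_sigma h c.symm.mem_sigma (hβHall.2.1 q c.hq hd).1
  have hpB : ¬ p ∣ Nat.card (piCoreOf (beta M) M) := by
    intro hd
    exact hpσ (Cfsg.Agent.Lib.Helper78.BG.alpha_subset_sigma hG h.h1403 M c.hM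
      (hβHall.2.1 p hp hd).1)
  have hcop : Nat.Coprime (Nat.card (piCoreOf (beta M) M)) (Nat.card ↥(S ⊔ P)) := by
    have hd : Nat.card ↥(S ⊔ P) ∣ Nat.card S * Nat.card P := by
      have := card_sup_dvd_mul (A := P) (B := S) hPN
      rwa [sup_comm, mul_comm] at this
    apply Nat.Coprime.coprime_dvd_right hd
    apply Nat.Coprime.mul_right
    · obtain ⟨n, hn⟩ := IsPGroup.iff_card.mp c.pgroup
      rw [hn]
      exact Nat.Coprime.pow_right n ((Nat.Prime.coprime_iff_not_dvd c.hq).mpr hqB).symm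
    · rw [hP]
      exact ((Nat.Prime.coprime_iff_not_dvd hp).mpr hpB).symm
  have frob := Cfsg.Agent.Lib.Helper97.FrobFormula.frob_formula S P (piCoreOf (beta M) M)
    hUn hfpf hnil hGH hsolv hcop
  have hBSP : piCoreOf (beta M) M ⊓ Subgroup.centralizer ((S ⊔ P : Subgroup G) : Set G) = ⊥ := by
    rw [eq_bot_iff, ← hBP]
    exact inf_le_inf_left _ (centralizer_anti le_sup_right)
  rw [hBP, hBSP, Subgroup.card_bot, one_pow, one_mul, one_mul] at frob
  have hBS : piCoreOf (beta M) M ≤ Subgroup.centralizer (S : Set G) := by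
    have h1 : piCoreOf (beta M) M ⊓ Subgroup.centralizer (S : Set G) = piCoreOf (beta M) M :=
      Subgroup.eq_of_le_of_card_ge inf_le_left (le_of_eq frob)
    rw [← h1]; exact inf_le_right
  have hBMs : piCoreOf (beta M) M ≤ Ms := hBS.trans ((centralizer_le_normalizer' S).trans c.hNMs)
  obtain ⟨X, r, hr, hX, hXB⟩ := exists_prime_card_le (c.betaCore_ne_bot h)
  have hrβ : r ∈ beta M := hβHall.2.1 r hr (hX ▸ Subgroup.card_dvd_of_le hXB)
  have hrα : r ∈ alpha M := hrβ.1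
  have hrσ : r ∉ sigma Ms := fun hσ => c.not_alpha_of_sigma h hσ hrα
  have hr1 : PRankLE r 1 Ms := c.symm.rank_one h hr hrσ
  have hr2 := hrα.2
  rw [Cfsg.Agent.Lib.Helper24.pRankLE_subgroup_iff] at hr2 hr1
  push Not at hr2
  obtain ⟨A, hAM, hAc, hAe, hAcard⟩ := hr2
  have hAB : A ≤ piCoreOf (beta M) M := by
    refine Cfsg.Agent.Lib.Helper74.BG.le_of_isPiHallOf_of_normal hβHall hBn hAM ?_
    intro p' hp' hd
    have : Fact r.Prime := ⟨hr⟩
    have hAp : IsPGroup r A := by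
      intro a
      refine ⟨1, ?_⟩
      rw [pow_one]
      exact Subtype.ext (by simpa using hAe a a.2)
    rw [Cfsg.Agent.Lib.Helper67.BG.prime_eq_of_dvd_card_isPGroup hAp hp' hd]
    exact hrβ
  have h3 := hr1 A (hAB.trans hBMs) hAc hAe
  have h4 : r ^ 1 < r ^ 2 := Nat.pow_lt_pow_right hr.one_lt (by norm_num)
  exact absurd (lt_of_lt_of_le (lt_trans h4 hAcard) h3) (lt_irrefl _)

/-- The primes dividing `|K|` lie in `τ₁(Ms)`. -/
theorem SCfg.edata_tau1_symm (h : SHyp hG) (c : SCfg M Ms S q) {E K E₃ : Subgroup G} {b : G}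
    (d : EData M S E K E₃ b) {r : ℕ} (hr : r.Prime) (hd : r ∣ Nat.card K) : r ∈ tau1 Ms := by
  have : Fact r.Prime := ⟨hr⟩
  obtain ⟨y, hy⟩ := exists_prime_orderOf_dvd_card' r hd
  have hy' : orderOf (y : G) = r := by rw [Subgroup.orderOf_coe, hy]
  have hcard : Nat.card (Subgroup.zpowers (y : G)) = r := card_zpowers_of_orderOf hy'
  have hle : Subgroup.zpowers (y : G) ≤ K := Subgroup.zpowers_le.mpr y.2
  refine c.symm.mem_tau1 h hr hcard (hle.trans (d.hK.1.trans d.hEN)) ?_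
  have hy1 : (y : G) ≠ 1 := by
    intro h1; rw [h1, orderOf_one] at hy'; exact hr.one_lt.ne hy'
  obtain ⟨s, hs, hs1⟩ : ∃ s ∈ S, s ≠ 1 := by
    by_contra hcon
    push Not at hcon
    exact c.hS1 ((Subgroup.eq_bot_iff_forall S).mpr hcon)
  exact ⟨y, Subgroup.mem_zpowers _, s, hs, fun hc => hs1 (d.hfpf y y.2 hy1 s hs hc)⟩

end

end Cfsg.Agent.Lib.Helper83.BG
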