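import Mathlib
import Cfsg.Agent.Lib.Helper83.BG.SigmaPart2

/-!
Bender–Glauberman 13.9 (the sigma-partition) without S1430, part 3: the structure theorem.
For two non-conjugate maximal subgroups `M`, `Ms` containing the normalizer of a common Sylow
subgroup `S` of `G` there is a subgroup `X` of prime order `p ∈ τ₁(M) ∩ τ₁(Ms)` of `N_G(S)`
centralizing subgroups of prime order `r ∈ β(M)` of `M` and `s ∈ β(Ms)` of `Ms`, such that no
prime of `β(Ms)` divides `|C_M(X)|` and no prime of `β(M)` divides `|C_Ms(X)|`.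
-/

set_option autoImplicit false

namespace Cfsg.Agent.Lib.Helper83.BG

open Cfsg Cfsg.Agent.Lib.Helper46 Cfsg.Agent.Lib.Helper35.BG Cfsg.Agent.Lib.Helper27.BG

section

variable {G : Type*} [Group G] [Finite G] {hG : Cfsg.IsMinSimpleOddOrder G}
  {M Ms S : Subgroup G} {q : ℕ}

/-- (C1): no prime of `β(Ms)` divides `|C_M(P)|`, for `P ≤ K` of prime order. -/
theorem SCfg.not_dvd_card_centralizer (h : SHyp hG) (c : SCfg M Ms S q) {E K E₃ : Subgroup G}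
    {b : G} (d : EData M S E K E₃ b) {P : Subgroup G} {p : ℕ} (hp : p.Prime)
    (hP : Nat.card P = p) (hPK : P ≤ K) :
    ∀ t ∈ beta Ms, ¬ t ∣ Nat.card ↥(M ⊓ Subgroup.centralizer (P : Set G)) := by
  intro t ht hdvd
  have htp : t.Prime := ht.1.1
  have : Fact t.Prime := ⟨htp⟩
  have : Fact p.Prime := ⟨hp⟩
  have hMsolv : Group.IsSolvable M := isSolvable_of_ne_top hG c.hM.1
  have hpK : p ∣ Nat.card K := hP ▸ Subgroup.card_dvd_of_le hPK
  have hpτM : p ∈ tau1 M := d.hK.2.1 p hp hpK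
  have hpτMs : p ∈ tau1 Ms := c.edata_tau1_symm h d hp hpK
  have htσM : t ∉ sigma M := fun hσ => c.symm.not_alpha_of_sigma h hσ ht.1
  obtain ⟨z, hz⟩ := exists_prime_orderOf_dvd_card' t hdvd
  have hz' : orderOf (z : G) = t := by rw [Subgroup.orderOf_coe, hz]
  have hZcard : Nat.card (Subgroup.zpowers (z : G)) = t := card_zpowers_of_orderOf hz'
  have hZle : Subgroup.zpowers (z : G) ≤ M ⊓ Subgroup.centralizer (P : Set G) :=
    Subgroup.zpowers_le.mpr z.2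
  have hZM : Subgroup.zpowers (z : G) ≤ M := hZle.trans inf_le_left
  have hZC : Subgroup.zpowers (z : G) ≤ Subgroup.centralizer (P : Set G) :=
    hZle.trans inf_le_right
  have hPE : P ≤ E := hPK.trans d.hK.1
  have hPM : P ≤ M := hPE.trans d.hE.1
  have hYM : Subgroup.zpowers (z : G) ⊔ P ≤ M := sup_le hZM hPM
  have hYcard : Nat.card ↥(Subgroup.zpowers (z : G) ⊔ P) ∣ t * p := by
    have h1 := card_sup_dvd_mul (A := Subgroup.zpowers (z : G)) (B := P)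
      (hZC.trans (centralizer_le_normalizer' P))
    rwa [hZcard, hP] at h1
  have hcop : (Nat.card ↥(Subgroup.zpowers (z : G) ⊔ P)).Coprime (E.relIndex M) := by
    rw [relIndex_left_of_isComplIn d.hE]
    apply Nat.Coprime.coprime_dvd_left hYcard
    apply Nat.Coprime.mul_left
    · rw [Nat.Prime.coprime_iff_not_dvd htp]
      exact fun hd => htσM (Cfsg.Agent.Lib.Helper67.BG.sigmaCore_isPi M t htp hd)
    · rw [Nat.Prime.coprime_iff_not_dvd hp]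
      exact fun hd => hpτM.2.1 (Cfsg.Agent.Lib.Helper67.BG.sigmaCore_isPi M p hp hd)
  obtain ⟨m, hm, hYm⟩ :=
    Cfsg.Agent.Lib.Helper74.BG.exists_mem_conj_le_of_coprime_relIndex hMsolv hYM hcop
  have hPm : P.map (MulAut.conj m).toMonoidHom ≤ E := (Subgroup.map_mono le_sup_right).trans hYm
  have hZm : (Subgroup.zpowers (z : G)).map (MulAut.conj m).toMonoidHom ≤ E :=
    (Subgroup.map_mono le_sup_left).trans hYm
  have hp2 : p ≠ 2 := Cfsg.Agent.Lib.Helper13.BG.prime_ne_two13 hG hpK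
  have hrE : PRankLE p 1 E := pRankLE_le d.hE.1 hpτM.2.2.2.2
  obtain ⟨e, he, heP⟩ := exists_conj_eq_of_card_prime hp2 hrE hPE hPm hP
    (by rw [card_map_conj]; exact hP)
  rw [Cfsg.Agent.Lib.Helper35.BG.map_conj_mul] at heP
  obtain ⟨Z₂, hZ₂def⟩ :
      ∃ Z₂, Z₂ = (Subgroup.zpowers (z : G)).map (MulAut.conj (e * m)).toMonoidHom := ⟨_, rfl⟩
  have hZ₂card : Nat.card Z₂ = t := by rw [hZ₂def, card_map_conj]; exact hZcard
  have hZ₂E : Z₂ ≤ E := by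
    rw [hZ₂def, ← Cfsg.Agent.Lib.Helper35.BG.map_conj_mul]
    have h1 := Subgroup.map_mono (f := (MulAut.conj e).toMonoidHom) hZm
    rwa [map_conj_eq_of_mem he] at h1
  have hZ₂P : Z₂ ≤ Subgroup.centralizer (P : Set G) := by
    have h1 := Subgroup.map_mono (f := (MulAut.conj (e * m)).toMonoidHom) hZC
    rw [Cfsg.Agent.Lib.Helper46.centralizer_map, heP] at h1
    rw [hZ₂def]; exact h1
  have hZ₂N : Z₂ ≤ Subgroup.normalizer (S : Set G) := hZ₂E.trans d.hEN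
  have hZ₂Ms : Z₂ ≤ Ms := hZ₂N.trans c.hNMs
  have hZ₂β : Z₂ ≤ piCoreOf (beta Ms) Ms := by
    refine Cfsg.Agent.Lib.Helper74.BG.le_of_isPiHallOf_of_normal (h.h1414 Ms c.hMs).1
      (le_normalizer_piCoreOf (beta Ms) Ms) hZ₂Ms ?_
    intro r hr hd
    rw [hZ₂card] at hd
    rw [(Nat.prime_dvd_prime_iff_eq hr htp).mp hd]; exact ht
  have hZ₂σ : Z₂ ≤ sigmaCore Ms := hZ₂β.trans (betaCore_le_sigmaCore' h c.hMs)
  have hZ₂S : Z₂ ≤ Subgroup.centralizer (S : Set G) := by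
    intro x hx
    rw [Subgroup.mem_centralizer_iff]
    intro s hs
    have hc : x * s * x⁻¹ * s⁻¹ ∈ S ⊓ ⁅sigmaCore Ms, sigmaCore Ms⁆ := by
      refine Subgroup.mem_inf.mpr ⟨?_, ?_⟩
      · exact S.mul_mem ((Subgroup.mem_normalizer_iff.mp (hZ₂N hx) s).mp hs) (S.inv_mem hs)
      · exact Subgroup.commutator_mem_commutator (hZ₂σ hx) (c.symm.le_sigmaCore h hs)
    rw [c.symm.inf_commutator h, Subgroup.mem_bot] at hc
    calc s * x = (x * s * x⁻¹ * s⁻¹)⁻¹ * (x * s) := by group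
      _ = x * s := by rw [hc, inv_one, one_mul]
  have hZ₂E₃ : Z₂ ≤ E₃ := fun x hx => d.hCS (Subgroup.mem_inf.mpr ⟨hZ₂E hx, hZ₂S hx⟩)
  have hKσ : ∀ r : ℕ, r.Prime → r ∣ Nat.card K → r ∉ sigma Ms :=
    fun r hr hd => (c.edata_tau1_symm h d hr hd).2.1
  have hKMs : K ≤ Ms := (d.hK.1.trans d.hEN).trans c.hNMs
  obtain ⟨Es, hEs, hKEs⟩ := Cfsg.Agent.Lib.Helper76.BG.exists_compl_ge hG Ms c.hMs
    (h.h1350 Ms c.hMs).1 K hKMs hKσ
  have hsp := semiprime h c.hMs (fun r hr hrσ => c.symm.rank_one h hr hrσ) hEs hKEs d.hKc hPK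
    hpτMs hP
  have hZ₂K : Z₂ ≤ Subgroup.centralizer (K : Set G) :=
    fun x hx => hsp (Subgroup.mem_inf.mpr ⟨hZ₂σ hx, hZ₂P hx⟩)
  have hZ₂bot : Z₂ = ⊥ := by
    rw [Subgroup.eq_bot_iff_forall]
    intro x hx
    apply d.hfix x (hZ₂E₃ hx)
    have h1 := hZ₂K hx
    rw [Subgroup.mem_centralizer_iff] at h1
    exact h1 b d.hbK
  rw [hZ₂bot, Subgroup.card_bot] at hZ₂card
  exact htp.one_lt.ne hZ₂card

/-- The structure theorem for the configuration of the sigma-partition. -/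
theorem sigma_structure (h : SHyp hG) (c : SCfg M Ms S q) :
    ∃ (p : ℕ) (X : Subgroup G), p.Prime ∧ Nat.card X = p ∧ X ≤ M ⊓ Ms ∧
      p ∉ sigma M ∧ p ∉ sigma Ms ∧ PRankLE p 1 M ∧ PRankLE p 1 Ms ∧
      (∃ r ∈ beta M, ∃ R : Subgroup G, R ≤ M ∧ Nat.card R = r ∧
        R ≤ Subgroup.centralizer (X : Set G)) ∧
      (∃ s ∈ beta Ms, ∃ S₀ : Subgroup G, S₀ ≤ Ms ∧ Nat.card S₀ = s ∧
        S₀ ≤ Subgroup.centralizer (X : Set G)) ∧
      (∀ t ∈ beta Ms, ¬ t ∣ Nat.card ↥(M ⊓ Subgroup.centralizer (X : Set G))) ∧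
      (∀ t ∈ beta M, ¬ t ∣ Nat.card ↥(Ms ⊓ Subgroup.centralizer (X : Set G))) := by
  obtain ⟨E, K, E₃, b, d, -⟩ := c.exists_edata h ⊥ bot_le (by
    intro p hp hd
    rw [Subgroup.card_bot] at hd
    exact absurd (Nat.dvd_one.mp hd) hp.one_lt.ne')
  obtain ⟨P, p, hp, hP, hPK⟩ := exists_prime_card_le d.hK1
  have hpK : p ∣ Nat.card K := hP ▸ Subgroup.card_dvd_of_le hPK
  have hpτM : p ∈ tau1 M := d.hK.2.1 p hp hpK
  have hpτMs : p ∈ tau1 Ms := c.edata_tau1_symm h d hp hpK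
  have hPN : P ≤ Subgroup.normalizer (S : Set G) := hPK.trans (d.hK.1.trans d.hEN)
  have hfpf : ∀ x ∈ P, x ≠ 1 → ∀ s ∈ S, x * s = s * x → s = 1 :=
    fun x hx => d.hfpf x (hPK hx)
  obtain ⟨E', K', E₃', b', d', hPK'⟩ := c.symm.exists_edata h P hPN (by
    intro r hr hd
    rw [hP] at hd
    rw [(Nat.prime_dvd_prime_iff_eq hr hp).mp hd]; exact hpτMs)
  obtain ⟨R, r, hr, hR, hRM, hRP⟩ := c.exists_beta_centralizer h hp hP hPN hpτM.2.1 hfpf
  obtain ⟨R', r', hr', hR', hRM', hRP'⟩ :=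
    c.symm.exists_beta_centralizer h hp hP hPN hpτMs.2.1 hfpf
  exact ⟨p, P, hp, hP, le_inf (hPN.trans c.hNM) (hPN.trans c.hNMs), hpτM.2.1, hpτMs.2.1,
    hpτM.2.2.2.2, hpτMs.2.2.2.2, ⟨r, hr, R, hRM, hR, hRP⟩, ⟨r', hr', R', hRM', hR', hRP'⟩,
    c.not_dvd_card_centralizer h d hp hP hPK, c.symm.not_dvd_card_centralizer h d' hp hP hPK'⟩

end

end Cfsg.Agent.Lib.Helper83.BG
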