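import Mathlib
import Cfsg.Statements.S1378
import Cfsg.Statements.S1404
import Cfsg.Statements.S1408
import Cfsg.Statements.S1409
import Cfsg.Agent.Lib.Helper83.BG.SigmaPart3
import Cfsg.Agent.Lib.Helper90.BG.SigmaEndgame
import Cfsg.Agent.Lib.Helper47.Minimal

/-!
Bender–Glauberman 13.9 (the sigma-partition, statement S1378) WITHOUT S1430: from S1350,
S1403, S1404, S1405, S1408, S1409, S1414, S1415, S1417, S1423, S1426, S1427, S1428.
The structure part is `sigma_structure` (helper83), the endgame is helper90's `sigma_endgame`;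
the reduction to the configuration follows helper27's `s1378_core`.
-/

set_option autoImplicit false

namespace Cfsg.Agent.Lib.Helper83.BG

open Cfsg Cfsg.Agent.Lib.Helper46 Cfsg.Agent.Lib.Helper35.BG Cfsg.Agent.Lib.Helper27.BG

/-- The configuration of two non-conjugate maximal subgroups containing the normalizer of a
common Sylow subgroup of `G` is contradictory. -/
theorem SCfg.false {G : Type*} [Group G] [Finite G] {hG : Cfsg.IsMinSimpleOddOrder G}
    {M Ms S : Subgroup G} {q : ℕ} (h : SHyp hG)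
    (h1404 : type_of% (@Cfsg.CfsgFrozen.S1404 G _ _ hG))
    (h1408 : type_of% (@Cfsg.CfsgFrozen.S1408 G _ _ hG))
    (h1409 : type_of% (@Cfsg.CfsgFrozen.S1409 G _ _ hG))
    (c : SCfg M Ms S q) : False := by
  obtain ⟨p, X, hp, hX, -, hpM, hpMs, hrM, hrMs, ⟨r, hr, R, hRM, hR, hRX⟩,
    ⟨s, hs, S₀, hS₀, hS₀c, hS₀X⟩, hC1, hC2⟩ := sigma_structure h c
  have : Fact p.Prime := ⟨hp⟩
  exact Cfsg.Agent.Lib.Helper90.BG.sigma_endgame hG h.h1350 h.h1403 h1404 h1408 h1409 h.h1415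
    h.h1423 M Ms c.hM c.hMs p X hX hpM hpMs hrM hrMs r hr R hRM hR hRX s hs S₀ hS₀ hS₀c hS₀X
    hC1 hC2

/-- A nonabelian simple group is not a `p`-group: a Sylow subgroup is proper. -/
theorem sylow_ne_top' {G : Type*} [Group G] [Finite G] (hG : Cfsg.IsMinSimpleOddOrder G)
    {p : ℕ} [Fact p.Prime] (P : Sylow p G) : (P : Subgroup G) ≠ ⊤ := by
  intro htop
  have hsimple : IsSimpleGroup G := hG.2.1
  have hpG : IsPGroup p G := by
    intro g
    obtain ⟨k, hk⟩ := P.isPGroup' ⟨g, htop ▸ Subgroup.mem_top g⟩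
    exact ⟨k, by simpa using congrArg Subtype.val hk⟩
  have hnt : Nontrivial (Subgroup.center G) := hpG.center_nontrivial
  rcases (inferInstance : (Subgroup.center G).Normal).eq_bot_or_eq_top with h1 | h1
  · rw [Subgroup.nontrivial_iff_ne_bot] at hnt
    exact hnt h1
  · apply hG.2.2.1
    refine ⟨⟨fun a b => ?_⟩⟩
    have ha : a ∈ Subgroup.center G := h1 ▸ Subgroup.mem_top a
    exact (Subgroup.mem_center_iff.mp ha b).symm

/-- The sigma-partition (second clause of S1378) without S1430: maximal subgroups `M`, `N` with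
`σ(M) ∩ σ(N) ≠ ∅` are conjugate. -/
theorem sigma_disjoint_core {G : Type*} [Group G] [Finite G] (hG : Cfsg.IsMinSimpleOddOrder G)
    (h1350 : type_of% (@Cfsg.CfsgFrozen.S1350 G _ _ hG))
    (h1403 : type_of% (@Cfsg.CfsgFrozen.S1403 G _ _ hG))
    (h1404 : type_of% (@Cfsg.CfsgFrozen.S1404 G _ _ hG))
    (h1405 : type_of% (@Cfsg.CfsgFrozen.S1405 G _ _ hG))
    (h1408 : type_of% (@Cfsg.CfsgFrozen.S1408 G _ _ hG))
    (h1409 : type_of% (@Cfsg.CfsgFrozen.S1409 G _ _ hG))
    (h1414 : type_of% (@Cfsg.CfsgFrozen.S1414 G _ _ hG))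
    (h1415 : type_of% (@Cfsg.CfsgFrozen.S1415 G _ _ hG))
    (h1417 : type_of% (@Cfsg.CfsgFrozen.S1417 G _ _ hG))
    (h1423 : type_of% (@Cfsg.CfsgFrozen.S1423 G _ _ hG))
    (h1426 : type_of% (@Cfsg.CfsgFrozen.S1426 G _ _ hG))
    (h1427 : type_of% (@Cfsg.CfsgFrozen.S1427 G _ _ hG))
    (h1428 : type_of% (@Cfsg.CfsgFrozen.S1428 G _ _ hG)) :
    ∀ M N : Subgroup G, IsCoatom M → IsCoatom N → (Cfsg.sigma M ∩ Cfsg.sigma N).Nonempty →
      ∃ g : G, N = M.map (MulAut.conj g).toMonoidHom := by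
  have h : SHyp hG := ⟨h1350, h1403, h1405, h1414, h1415, h1417, h1423, h1426, h1427, h1428⟩
  rintro M N hM hN ⟨q, hqM, hqN⟩
  by_contra hnc
  push Not at hnc
  obtain ⟨hqp, hdM, P, hNP⟩ := id hqM
  obtain ⟨-, hdN, Q, hNQ⟩ := id hqN
  have : Fact q.Prime := ⟨hqp⟩
  have hSM : IsSylowIn q ((P : Subgroup M).map M.subtype) M := isSylowIn_of_sylow P
  have hStop : IsSylowIn q ((P : Subgroup M).map M.subtype) ⊤ := isSylowIn_top_of_sigma hqM hSM
  have hTN : IsSylowIn q ((Q : Subgroup N).map N.subtype) N := isSylowIn_of_sylow Q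
  have hTtop : IsSylowIn q ((Q : Subgroup N).map N.subtype) ⊤ := isSylowIn_top_of_sigma hqN hTN
  obtain ⟨g, -, hg⟩ := hTtop.exists_conj hStop
  have hS1 : (P : Subgroup M).map M.subtype ≠ ⊥ := by
    intro hbot
    have h1 := hSM.2
    rw [hbot, Subgroup.card_bot] at h1
    have h2 : (Nat.card M).factorization q = 0 := by
      by_contra h3
      have : 1 < q ^ (Nat.card M).factorization q := Nat.one_lt_pow h3 hqp.one_lt
      omega
    rcases (Nat.factorization_eq_zero_iff _ _).mp h2 with h3 | h3 | h3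
    · exact h3 hqp
    · exact h3 hdM
    · exact Nat.card_pos.ne' h3
  have c : SCfg M (N.map (MulAut.conj g).toMonoidHom) ((P : Subgroup M).map M.subtype) q :=
    { hM := hM
      hMs := Cfsg.Agent.Lib.Helper47.isCoatom_map_conj hN g
      hq := hqp
      hS := hStop
      hS1 := hS1
      hSM := hSM.1
      hSMs := by rw [hg]; exact Subgroup.map_mono hTN.1
      hNM := hNP
      hNMs := by rw [hg, normalizer_map_conj]; exact Subgroup.map_mono hNQ
      hnc := by
        intro g' hg'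
        apply hnc (g⁻¹ * g')
        have h1 : (N.map (MulAut.conj g).toMonoidHom).map (MulAut.conj g⁻¹).toMonoidHom = N := by
          rw [Cfsg.Agent.Lib.Helper35.BG.map_conj_mul, inv_mul_cancel,
            Cfsg.Agent.Lib.Helper35.BG.map_conj_one]
        rw [← h1, hg', Cfsg.Agent.Lib.Helper35.BG.map_conj_mul] }
  exact c.false h h1404 h1408 h1409

/-- Statement S1378 from the earlier statements S1350, S1403, S1404, S1405, S1408, S1409, S1414,
S1415, S1417, S1423, S1426, S1427, S1428 (no S1430). -/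
theorem s1378_core_free {G : Type*} [Group G] [Finite G] (hG : Cfsg.IsMinSimpleOddOrder G)
    (h1350 : type_of% (@Cfsg.CfsgFrozen.S1350 G _ _ hG))
    (h1403 : type_of% (@Cfsg.CfsgFrozen.S1403 G _ _ hG))
    (h1404 : type_of% (@Cfsg.CfsgFrozen.S1404 G _ _ hG))
    (h1405 : type_of% (@Cfsg.CfsgFrozen.S1405 G _ _ hG))
    (h1408 : type_of% (@Cfsg.CfsgFrozen.S1408 G _ _ hG))
    (h1409 : type_of% (@Cfsg.CfsgFrozen.S1409 G _ _ hG))
    (h1414 : type_of% (@Cfsg.CfsgFrozen.S1414 G _ _ hG))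
    (h1415 : type_of% (@Cfsg.CfsgFrozen.S1415 G _ _ hG))
    (h1417 : type_of% (@Cfsg.CfsgFrozen.S1417 G _ _ hG))
    (h1423 : type_of% (@Cfsg.CfsgFrozen.S1423 G _ _ hG))
    (h1426 : type_of% (@Cfsg.CfsgFrozen.S1426 G _ _ hG))
    (h1427 : type_of% (@Cfsg.CfsgFrozen.S1427 G _ _ hG))
    (h1428 : type_of% (@Cfsg.CfsgFrozen.S1428 G _ _ hG)) :
    type_of% (@Cfsg.CfsgFrozen.S1378 G _ _ hG) := by
  refine ⟨?_, sigma_disjoint_core hG h1350 h1403 h1404 h1405 h1408 h1409 h1414 h1415 h1417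
    h1423 h1426 h1427 h1428⟩
  intro p hp hdvd
  have : Fact p.Prime := ⟨hp⟩
  obtain ⟨P⟩ : Nonempty (Sylow p G) := inferInstance
  have hP1 : (P : Subgroup G) ≠ ⊥ := P.ne_bot_of_dvd_card hdvd
  obtain ⟨M, hM, hNM⟩ := exists_coatom_ge (normalizer_ne_top hG hP1 (sylow_ne_top' hG P))
  have hPM : (P : Subgroup G) ≤ M := Subgroup.le_normalizer.trans hNM
  have hsyl : IsSylowIn p (P : Subgroup G) ⊤ :=
    ⟨le_top, by rw [Sylow.card_eq_multiplicity, Subgroup.card_top]⟩
  have hsylM : IsSylowIn p (P : Subgroup G) M := sylIn_mono hsyl hPM le_top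
  refine ⟨M, hM, mem_sigma_of_isSylowIn hsylM ?_ hNM⟩
  exact (Cfsg.Agent.Lib.Helper67.BG.dvd_card_of_isPGroup_ne_bot P.isPGroup' hP1).trans
    (Subgroup.card_dvd_of_le hPM)

end Cfsg.Agent.Lib.Helper83.BG
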